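import Mathlib
import Cfsg.Prelude.Def_Local
import Cfsg.Agent.Lib.GenFitting
set_option linter.all false

/-!
# Permutation groups with quasisimple generalized Fitting subgroup containing elements of small support

`G` is a finite group, `K` a normal perfect subgroup such that every subgroup of `K` normal in `K` is
`K` or central in `K`, and `C_G(K) ≤ K`. `ρ : G →* Perm X` is an action.
-/

set_option autoImplicit false
set_option linter.style.haveILetI false

namespace Cfsg.Agent.H247

open Equiv Equiv.Perm Subgroup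

/-- the group theoretic hypotheses on `K ≤ G` -/
structure QS {G : Type*} [Group G] (K : Subgroup G) : Prop where
  normal : K.Normal
  perfect : ⁅K, K⁆ = K
  min : ∀ N : Subgroup G, N ≤ K → (∀ k ∈ K, ∀ x ∈ N, k * x * k⁻¹ ∈ N) →
    N = K ∨ N ≤ centralizer (K : Set G)
  cent : centralizer (K : Set G) ≤ K
  nontriv : K ≠ ⊥

/-- F*(G) quasisimple gives the hypotheses -/
theorem qs_of_quasisimple {G : Type*} [Group G] [Finite G]
    (h : Cfsg.IsQuasisimple ↥(Cfsg.generalizedFittingSubgroup G)) :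
    QS (Cfsg.generalizedFittingSubgroup G) := by
  set K := Cfsg.generalizedFittingSubgroup G with hK
  refine ⟨Lib.GenFitting.genFitting_normal, Subgroup.isPerfect_iff.1 h.1, ?_,
    Lib.GenFitting.centralizer_genFitting_le, ?_⟩
  · intro N hN hn
    have hNn : (N.subgroupOf K).Normal := by
      constructor
      intro x hx k
      rw [Subgroup.mem_subgroupOf] at hx ⊢
      exact hn k.1 k.2 x.1 hx
    rcases Lib.ComponentSolvable.quasisimple_normal_cases h hNn with h1 | h1
    · left
      apply le_antisymm hN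
      exact Subgroup.subgroupOf_eq_top.1 h1
    · right
      intro x hx
      rw [Subgroup.mem_centralizer_iff]
      intro k hk
      have h2 : (⟨x, hN hx⟩ : K) ∈ Subgroup.center K := h1 (by rw [Subgroup.mem_subgroupOf]; exact hx)
      have h3 := (Subgroup.mem_center_iff.1 h2) ⟨k, hk⟩
      exact congrArg Subtype.val h3
  · intro hb
    have h2 := h.2
    have : Subsingleton K := by rw [hb]; infer_instance
    have h3 : Subsingleton (K ⧸ Subgroup.center K) := by
      apply Quotient.instSubsingletonQuotient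
    exact not_subsingleton _ h3

section

variable {G : Type*} [Group G] {K : Subgroup G} {X : Type*} (ρ : G →* Perm X)

/-- If `x` fixes all members of a `K`-invariant family of sets, then `K` does so or `x` centralizes `K`. -/
theorem QS.fix (h : QS K) (S : Set (Set X)) (hS : ∀ k ∈ K, ∀ s ∈ S, ρ k '' s ∈ S) {x : G}
    (hx : ∀ s ∈ S, ρ x '' s = s) :
    (∀ k ∈ K, ∀ s ∈ S, ρ k '' s = s) ∨ x ∈ centralizer (K : Set G) := by
  haveI := h.normal
  have himg : ∀ (a b : G) (s : Set X), ρ (a * b) '' s = ρ a '' (ρ b '' s) := by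
    intro a b s
    rw [map_mul, Perm.coe_mul, Set.image_comp]
  have himg1 : ∀ (s : Set X), ρ 1 '' s = s := by
    intro s; simp
  -- the stabilizer of the family
  let A : Subgroup G :=
    { carrier := {g | ∀ s ∈ S, ρ g '' s = s}
      mul_mem' := by
        intro a b ha hb s hs
        rw [himg, hb s hs, ha s hs]
      one_mem' := by
        intro s _; exact himg1 s
      inv_mem' := by
        intro a ha s hs
        calc ρ a⁻¹ '' s = ρ a⁻¹ '' (ρ a '' s) := by rw [ha s hs]
          _ = s := by rw [← himg, inv_mul_cancel, himg1] }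
  have hA : ∀ g, g ∈ A ↔ ∀ s ∈ S, ρ g '' s = s := fun g => Iff.rfl
  have hconj : ∀ k ∈ K, ∀ a ∈ A, k * a * k⁻¹ ∈ A := by
    intro k hk a ha
    rw [hA] at ha ⊢
    intro s hs
    rw [himg, himg, ha _ (hS _ (K.inv_mem hk) _ hs), ← himg, mul_inv_cancel, himg1]
  rcases h.min (K ⊓ A) inf_le_left (fun k hk a ha =>
    ⟨h.normal.conj_mem _ ha.1 _, hconj k hk a ha.2⟩) with h1 | h1
  · left
    intro k hk
    have : k ∈ K ⊓ A := by rw [h1]; exact hk
    exact this.2
  · right
    have hxA : x ∈ A := hx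
    have h2 : ⁅A, K⁆ ≤ K ⊓ A := by
      rw [Subgroup.commutator_le]
      intro a ha k hk
      refine ⟨?_, ?_⟩
      · rw [commutatorElement_def]
        exact K.mul_mem (h.normal.conj_mem _ hk _) (K.inv_mem hk)
      · rw [commutatorElement_def]
        have : a * k * a⁻¹ * k⁻¹ = a * (k * a⁻¹ * k⁻¹) := by group
        rw [this]
        exact A.mul_mem ha (hconj k hk _ (A.inv_mem ha))
    have h3 : ⁅⁅A, K⁆, K⁆ = ⊥ := by
      rw [Subgroup.commutator_eq_bot_iff_le_centralizer]
      exact h2.trans h1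
    have h4 : ⁅⁅K, A⁆, K⁆ = ⊥ := by
      rw [Subgroup.commutator_comm K A]; exact h3
    have h5 : ⁅⁅K, K⁆, A⁆ = ⊥ := Subgroup.commutator_commutator_eq_bot_of_rotate h4 h3
    rw [h.perfect, Subgroup.commutator_comm, Subgroup.commutator_eq_bot_iff_le_centralizer] at h5
    exact h5 hxA

theorem solvable_perm_four : Group.IsSolvable (Perm (Fin 4)) := by
  have h4 : Nat.card (Fin 4) = 4 := by simp
  haveI hA : Group.IsSolvable (alternatingGroup (Fin 4)) := by
    haveI := alternatingGroup.normal_kleinFour h4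
    rw [Group.isSolvable_iff_subgroup_quotient (alternatingGroup.kleinFour (Fin 4))]
    constructor
    · haveI := alternatingGroup.kleinFour_isKleinFour h4
      haveI := IsKleinFour.isMulCommutative (G := alternatingGroup.kleinFour (Fin 4))
      exact Group.isSolvable_of_comm fun a b => mul_comm' a b
    · haveI := (Subgroup.Normal.quotient_commutative_iff_commutator_le
        (N := alternatingGroup.kleinFour (Fin 4))).2 (alternatingGroup.kleinFour_eq_commutator h4).ge
      exact Group.isSolvable_of_comm fun a b => mul_comm' a b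
  exact Group.isSolvable_of_ker_le_range (alternatingGroup (Fin 4)).subtype (sign (α := Fin 4))
    (by rw [Subgroup.range_subtype, alternatingGroup_eq_sign_ker])

theorem solvable_perm_of_card_le {Y : Type*} [Finite Y] (h : Nat.card Y ≤ 4) :
    Group.IsSolvable (Perm Y) := by
  classical
  haveI := Fintype.ofFinite Y
  have h1 : Nonempty (Y ↪ Fin 4) := by
    apply Function.Embedding.nonempty_of_card_le
    rw [← Nat.card_eq_fintype_card]; simpa using h
  obtain ⟨f⟩ := h1
  haveI := solvable_perm_four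
  exact Group.isSolvable_of_isSolvable_injective (Equiv.Perm.viaEmbeddingHom_injective f)

/-- a homomorphism from a perfect group to a solvable group is trivial -/
theorem perfect_hom_eq_one {P S : Type*} [Group P] [Group S] (hP : Group.IsPerfect P)
    (hS : Group.IsSolvable S) (f : P →* S) (x : P) : f x = 1 := by
  have h1 : Group.IsPerfect f.range := Group.IsPerfect.range f
  have h2 : Group.IsSolvable f.range := inferInstance
  have h3 : Subsingleton f.range := by
    by_contra hc
    rw [not_subsingleton_iff_nontrivial] at hc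
    exact Group.IsPerfect.not_isSolvable f.range h2
  have h4 := congrArg Subtype.val (Subsingleton.elim (⟨f x, ⟨x, rfl⟩⟩ : f.range) 1)
  simpa using h4

/-- the action on an invariant set -/
def restr (B : Set X) (hB : ∀ (g : G), ∀ x ∈ B, ρ g x ∈ B) : G →* Perm B where
  toFun g := (ρ g).subtypePerm (p := fun x => x ∈ B) (fun x => ⟨fun h => by
    have := hB g⁻¹ _ h
    simpa using this, fun h => hB g x h⟩)
  map_one' := by ext; simp
  map_mul' a b := by
    ext x
    rw [Perm.mul_apply, Perm.subtypePerm_apply, Perm.subtypePerm_apply, Perm.subtypePerm_apply]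
    simp

@[simp] theorem restr_apply (B : Set X) (hB : ∀ (g : G), ∀ x ∈ B, ρ g x ∈ B) (g : G) (x : B) :
    ((restr ρ B hB g x : B) : X) = ρ g x := rfl

variable {ρ}

/-- `K` fixes the points of an invariant set with at most four points -/
theorem QS.fix_small (h : QS K) {B : Set X} (hfin : B.Finite) (hc : B.ncard ≤ 4)
    (hB : ∀ k ∈ K, ∀ b ∈ B, ρ k b ∈ B) : ∀ k ∈ K, ∀ b ∈ B, ρ k b = b := by
  haveI : Finite B := hfin
  intro k hk b hb
  have h1 := perfect_hom_eq_one (Subgroup.isPerfect_iff.2 h.perfect)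
    (solvable_perm_of_card_le (Y := B) (by simpa using hc))
    (restr (ρ.comp K.subtype) B (fun g x hx => hB g g.2 x hx)) ⟨k, hk⟩
  have h2 := congrArg (fun σ : Perm B => ((σ ⟨b, hb⟩ : B) : X)) h1
  exact h2

/-- an element of small support does not centralize `K` -/
theorem QS.not_mem_centralizer (h : QS K) (hρ : Function.Injective ρ) {x : G} (hx : x ≠ 1)
    (hfin : {a | ρ x a ≠ a}.Finite) (hc : {a | ρ x a ≠ a}.ncard ≤ 4) :
    x ∉ centralizer (K : Set G) := by
  intro hxc
  have hxK := h.cent hxc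
  apply hx
  apply hρ
  rw [map_one]
  ext a
  by_contra hne
  have := h.fix_small (ρ := ρ) hfin hc (by
    intro k hk b hb
    simp only [Set.mem_ofPred_eq] at hb ⊢
    intro hcon
    apply hb
    have h1 : k * x = x * k := Subgroup.mem_centralizer_iff.1 hxc k hk
    have h2 : ρ k (ρ x b) = ρ x (ρ k b) := by
      rw [← Perm.mul_apply, ← Perm.mul_apply, ← map_mul, ← map_mul, h1]
    rw [hcon] at h2
    exact (ρ k).injective h2) x hxK a hne
  exact hne this

/-- the `K`-orbit -/
def orb (ρ : G →* Perm X) (K : Subgroup G) (a : X) : Set X := {b | ∃ k ∈ K, ρ k a = b}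

theorem mem_orb_self (a : X) : a ∈ orb ρ K a := ⟨1, K.one_mem, by simp⟩

theorem orb_inv {a b : X} {k : G} (hk : k ∈ K) (hb : b ∈ orb ρ K a) : ρ k b ∈ orb ρ K a := by
  obtain ⟨l, hl, rfl⟩ := hb
  exact ⟨k * l, K.mul_mem hk hl, by simp⟩

theorem orb_symm {a b : X} (hb : b ∈ orb ρ K a) : a ∈ orb ρ K b := by
  obtain ⟨l, hl, rfl⟩ := hb
  exact ⟨l⁻¹, K.inv_mem hl, by simp⟩

theorem orb_eq {a b : X} (hb : b ∈ orb ρ K a) : orb ρ K b = orb ρ K a := by
  apply Set.Subset.antisymm
  · rintro c ⟨k, hk, rfl⟩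
    exact orb_inv hk hb
  · rintro c ⟨k, hk, rfl⟩
    exact orb_inv hk (orb_symm hb)

theorem image_orb (hn : K.Normal) (g : G) (a : X) : ρ g '' orb ρ K a = orb ρ K (ρ g a) := by
  ext b
  constructor
  · rintro ⟨c, ⟨k, hk, rfl⟩, rfl⟩
    refine ⟨g * k * g⁻¹, hn.conj_mem _ hk _, by simp⟩
  · rintro ⟨k, hk, rfl⟩
    refine ⟨ρ (g⁻¹ * k * g) a, ⟨g⁻¹ * k * g, by simpa using hn.conj_mem _ hk g⁻¹, rfl⟩, by simp⟩

/-- The element of small support moves a point in each nontrivial `K`-orbit. -/
theorem QS.exists_moved (h : QS K) {x : G} (hx : x ∉ centralizer (K : Set G)) {a : X}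
    (ha : ∃ k ∈ K, ρ k a ≠ a) : ∃ b ∈ orb ρ K a, ρ x b ≠ b := by
  by_contra hcon
  push Not at hcon
  rcases h.fix ρ {s | ∃ b ∈ orb ρ K a, s = {b}} (by
      rintro k hk s ⟨b, hb, rfl⟩
      exact ⟨ρ k b, orb_inv hk hb, by simp⟩) (x := x) (by
      rintro s ⟨b, hb, rfl⟩
      simp [hcon b hb]) with h1 | h1
  · obtain ⟨k, hk, hka⟩ := ha
    have := h1 k hk {a} ⟨a, mem_orb_self a, rfl⟩
    simp at this
    exact hka this
  · exact hx h1

/-- An element of small support preserves each nontrivial `K`-orbit. -/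
theorem QS.image_orb_eq (h : QS K) {x : G}
    (hfin : {a | ρ x a ≠ a}.Finite) (hc : {a | ρ x a ≠ a}.ncard ≤ 4) {a : X}
    (ha : ∃ k ∈ K, ρ k a ≠ a) : ρ x '' orb ρ K a = orb ρ K a := by
  by_cases hex : ∃ b ∈ orb ρ K a, ρ x b ∈ orb ρ K a
  · obtain ⟨b, hb, hxb⟩ := hex
    rw [← orb_eq hb, image_orb h.normal, orb_eq hxb, orb_eq hb]
  · exfalso
    push Not at hex
    have hsub : orb ρ K a ⊆ {a | ρ x a ≠ a} := by
      intro b hb hb2
      exact hex b hb (by rw [hb2]; exact hb)
    have h1 := h.fix_small (ρ := ρ) (hfin.subset hsub) ((Set.ncard_le_ncard hsub hfin).trans hc)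
      (fun k hk b hb => orb_inv hk hb)
    obtain ⟨k, hk, hka⟩ := ha
    exact hka (h1 k hk a (mem_orb_self a))

/-- `B` is a small set, any two points of which are joined by an element fixing all points outside `B` -/
structure SmallTrans (ρ : G →* Perm X) (B : Set X) : Prop where
  two : 2 ≤ B.ncard
  four : B.ncard ≤ 4
  trans : ∀ a ∈ B, ∀ b ∈ B, a ≠ b → ∃ v : G, ρ v a = b ∧ ∀ c, c ∉ B → ρ v c = c

theorem SmallTrans.finite {B : Set X} (hB : SmallTrans ρ B) : B.Finite :=
  Set.finite_of_ncard_pos (by have := hB.two; omega)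

theorem SmallTrans.elt {B : Set X} (hB : SmallTrans ρ B) (h : QS K) (hρ : Function.Injective ρ)
    {a b : X} (ha : a ∈ B) (hb : b ∈ B) (hab : a ≠ b) :
    ∃ v : G, ρ v a = b ∧ (∀ c, c ∉ B → ρ v c = c) ∧ v ∉ centralizer (K : Set G) ∧
      {a | ρ v a ≠ a}.Finite ∧ {a | ρ v a ≠ a}.ncard ≤ 4 := by
  obtain ⟨v, hv, hv2⟩ := hB.trans a ha b hb hab
  have hsub : {a | ρ v a ≠ a} ⊆ B := by
    intro c hc
    by_contra hcB
    exact hc (hv2 c hcB)
  have hfin := hB.finite.subset hsub
  have hc := (Set.ncard_le_ncard hsub hB.finite).trans hB.four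
  have hv1 : v ≠ 1 := by
    rintro rfl
    rw [map_one] at hv
    exact hab hv
  exact ⟨v, hv, hv2, h.not_mem_centralizer hρ hv1 hfin hc, hfin, hc⟩

/-- small sets are contained in nontrivial `K`-orbits -/
theorem SmallTrans.subset_orb {B : Set X} (hB : SmallTrans ρ B) (h : QS K)
    (hρ : Function.Injective ρ) {a : X} (ha : ∃ k ∈ K, ρ k a ≠ a) : B ⊆ orb ρ K a := by
  have h2 : 1 < B.ncard := hB.two
  obtain ⟨x, hx, y, hy, hxy⟩ := (Set.one_lt_ncard hB.finite).1 h2
  obtain ⟨v, hv1, hv2, hv3, hv4, hv5⟩ := hB.elt h hρ hx hy hxy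
  obtain ⟨b, hb, hvb⟩ := h.exists_moved hv3 ha
  have hbB : b ∈ B := by
    by_contra hc
    exact hvb (hv2 b hc)
  intro c hc
  by_cases hbc : b = c
  · rw [← hbc]; exact hb
  · obtain ⟨w, hw1, hw2, hw3, hw4, hw5⟩ := hB.elt h hρ hbB hc hbc
    rw [← h.image_orb_eq hw4 hw5 ha]
    exact ⟨b, hb, hw1⟩

/-- The unique nontrivial orbit of `K`. -/
theorem QS.exists_delta (h : QS K) (hρ : Function.Injective ρ) {B₀ : Set X}
    (hB₀ : SmallTrans ρ B₀) :
    ∃ (D : Set X) (hD : ∀ (g : G), ∀ x ∈ D, ρ g x ∈ D), Function.Injective (restr ρ D hD) ∧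
      (∀ x ∈ D, ∀ y ∈ D, ∃ k ∈ K, ρ k x = y) ∧ (∀ B, SmallTrans ρ B → B ⊆ D) := by
  obtain ⟨a, ha⟩ : ∃ a, ∃ k ∈ K, ρ k a ≠ a := by
    by_contra hcon
    push Not at hcon
    apply h.nontriv
    rw [Subgroup.eq_bot_iff_forall]
    intro k hk
    apply hρ
    rw [map_one]
    ext a
    exact hcon a k hk
  have huniq : ∀ b, (∃ k ∈ K, ρ k b ≠ b) → orb ρ K b = orb ρ K a := by
    intro b hb
    obtain ⟨x, hx⟩ : B₀.Nonempty := by
      rw [← Set.ncard_pos hB₀.finite]; have := hB₀.two; omega
    have h1 := hB₀.subset_orb h hρ ha hx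
    have h2 := hB₀.subset_orb h hρ hb hx
    rw [← orb_eq h1, orb_eq h2]
  have hinv : ∀ (g : G), ∀ x ∈ orb ρ K a, ρ g x ∈ orb ρ K a := by
    intro g x hx
    have h1 : orb ρ K (ρ g a) = orb ρ K a := by
      apply huniq
      obtain ⟨k, hk, hka⟩ := ha
      refine ⟨g * k * g⁻¹, h.normal.conj_mem _ hk _, ?_⟩
      intro hcon
      apply hka
      have h3 : ρ (g * k * g⁻¹) (ρ g a) = ρ g (ρ k a) := by simp
      rw [h3] at hcon
      exact (ρ g).injective hcon
    rw [← h1, ← image_orb h.normal]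
    exact ⟨x, hx, rfl⟩
  refine ⟨orb ρ K a, hinv, ?_, ?_, ?_⟩
  · rw [injective_iff_map_eq_one]
    intro g hg
    have hfix : ∀ x ∈ orb ρ K a, ρ g x = x := by
      intro x hx
      have := congrArg (fun σ : Perm (orb ρ K a) => ((σ ⟨x, hx⟩ : orb ρ K a) : X)) hg
      exact this
    have hgc : g ∈ centralizer (K : Set G) := by
      by_contra hgc
      obtain ⟨b, hb, hb2⟩ := h.exists_moved (ρ := ρ) hgc ha
      exact hb2 (hfix b hb)
    have hgK := h.cent hgc
    apply hρ
    rw [map_one]
    ext x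
    by_cases hx : x ∈ orb ρ K a
    · exact hfix x hx
    · by_contra hne
      apply hx
      rw [← huniq x ⟨g, hgK, hne⟩]
      exact mem_orb_self x
  · intro x hx y hy
    rw [← orb_eq hx] at hy
    exact hy
  · intro B hB
    exact hB.subset_orb h hρ ha

/-- primitivity -/
theorem QS.isPreprimitive [Finite X] [Nonempty X] (h : QS K) (hρ : Function.Injective ρ)
    (htr : ∀ x y : X, ∃ k ∈ K, ρ k x = y) {B : Set X} (hB : SmallTrans ρ B) :
    MulAction.IsPreprimitive ρ.range X := by
  haveI : MulAction.IsPretransitive ρ.range X := ⟨fun x y => by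
    obtain ⟨k, _, hk⟩ := htr x y
    exact ⟨⟨ρ k, k, rfl⟩, hk⟩⟩
  refine ⟨fun {C} hC => ?_⟩
  by_contra hnt
  rw [MulAction.IsTrivialBlock] at hnt
  push Not at hnt
  obtain ⟨hnt1, hnt2⟩ := hnt
  -- blocks
  have hblock : ∀ g g' : G, ∀ x, x ∈ ρ g '' C → x ∈ ρ g' '' C → ρ g '' C = ρ g' '' C := by
    intro g g' x hx hx'
    by_contra hne
    have := hC (g₁ := ⟨ρ g, g, rfl⟩) (g₂ := ⟨ρ g', g', rfl⟩) hne
    exact Set.disjoint_left.1 this hx hx'
  have himg : ∀ (a b : G) (s : Set X), ρ (a * b) '' s = ρ a '' (ρ b '' s) := by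
    intro a b s
    rw [map_mul, Perm.coe_mul, Set.image_comp]
  have hcard : ∀ g : G, (ρ g '' C).ncard = C.ncard := fun g =>
    Set.ncard_image_of_injective _ (ρ g).injective
  have hC2 : 2 ≤ C.ncard := by
    exact Set.one_lt_ncard_iff_nontrivial.2 hnt1
  obtain ⟨c, hc⟩ : C.Nonempty := Set.nonempty_of_ncard_ne_zero (by omega)
  -- an element outside the centralizer moves a block
  have hmove : ∀ x : G, x ∉ centralizer (K : Set G) → ∃ g : G, ρ (x * g) '' C ≠ ρ g '' C := by
    intro x hx
    by_contra hcon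
    push Not at hcon
    rcases h.fix ρ {s | ∃ g : G, s = ρ g '' C} (by
      rintro k hk s ⟨g, rfl⟩
      exact ⟨k * g, (himg _ _ _).symm⟩) (x := x) (by
      rintro s ⟨g, rfl⟩
      rw [← himg, hcon g]) with h1 | h1
    · apply hnt2
      rw [Set.eq_univ_iff_forall]
      intro y
      obtain ⟨k, hk, rfl⟩ := htr c y
      have h2 := h1 k hk (ρ 1 '' C) ⟨1, rfl⟩
      rw [map_one, Perm.coe_one, Set.image_id] at h2
      rw [← h2]
      exact ⟨c, hc, rfl⟩
    · exact hx h1
  have hmain : ∀ a ∈ B, ∀ b ∈ B, a ≠ b → ∃ v g : G, ρ v a = b ∧ ρ (v * g) '' C ≠ ρ g '' C ∧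
      C.ncard = 2 ∧ B.ncard = 4 ∧ ρ g '' C ∪ ρ (v * g) '' C = B := by
    intro a ha b hb hab
    obtain ⟨v, hv1, hv2, hv3, -, -⟩ := hB.elt h hρ ha hb hab
    obtain ⟨g, hg⟩ := hmove v hv3
    have hdis : Disjoint (ρ g '' C) (ρ (v * g) '' C) := by
      rw [Set.disjoint_left]
      intro x hx hx'
      exact hg (hblock _ _ x hx' hx)
    have hs1 : ρ g '' C ⊆ B := by
      intro x hx
      by_contra hxB
      have h1 : ρ v x = x := hv2 x hxB
      apply Set.disjoint_left.1 hdis hx
      rw [himg]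
      exact ⟨x, hx, h1⟩
    have hs2 : ρ (v * g) '' C ⊆ B := by
      intro x hx
      by_contra hxB
      have h1 : ρ v x = x := hv2 x hxB
      rw [himg] at hx
      obtain ⟨y, hy, hyx⟩ := hx
      have : y = x := by
        apply (ρ v).injective
        rw [hyx, h1]
      rw [this] at hy
      exact Set.disjoint_left.1 hdis hy (by rw [himg]; exact ⟨x, hy, h1⟩)
    have hsub : ρ g '' C ∪ ρ (v * g) '' C ⊆ B := Set.union_subset hs1 hs2
    have hn : (ρ g '' C ∪ ρ (v * g) '' C).ncard = C.ncard + C.ncard := by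
      rw [Set.ncard_union_eq hdis, hcard, hcard]
    have hle := Set.ncard_le_ncard hsub hB.finite
    have h4 := hB.four
    refine ⟨v, g, hv1, hg, by omega, by omega, ?_⟩
    exact Set.eq_of_subset_of_ncard_le hsub (by omega) hB.finite
  obtain ⟨x, hx, y, hy, hxy⟩ := (Set.one_lt_ncard hB.finite).1 hB.two
  obtain ⟨v, g, hv1, hg, hC2', hB4, hU⟩ := hmain x hx y hy hxy
  -- the block `ρ g '' C = {p, q}`
  obtain ⟨p, q, hpq, hD⟩ := Set.ncard_eq_two.1 ((hcard g).trans hC2')
  have hp : p ∈ ρ g '' C := by rw [hD]; simp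
  have hq : q ∈ ρ g '' C := by rw [hD]; simp
  obtain ⟨w, g', hw1, hg', -, -, hU'⟩ := hmain p (hU ▸ Or.inl hp) q (hU ▸ Or.inl hq) hpq
  have hpB : p ∈ ρ g' '' C ∪ ρ (w * g') '' C := by rw [hU', ← hU]; exact Or.inl hp
  -- `w` fixes the block
  have hwfix : ρ (w * g) '' C = ρ g '' C := by
    apply hblock _ _ q _ hq
    rw [himg]
    exact ⟨p, hp, hw1⟩
  rcases hpB with h1 | h1
  · have h2 := hblock _ _ p h1 hp
    apply hg'
    rw [himg, h2, ← himg, hwfix]
  · have h2 := hblock _ _ p h1 hp
    apply hg'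
    rw [h2]
    have h3 : ρ w '' (ρ g' '' C) = ρ w '' (ρ g '' C) := by
      rw [← himg, ← himg, h2, hwfix]
    have h4 := (Set.image_injective.2 (ρ w).injective) h3
    exact h4.symm

/-- If the image contains the alternating group then `K` is isomorphic to it. -/
theorem QS.equiv_alternating [Finite X] (h : QS K) (hρ : Function.Injective ρ)
    (m : ℕ) (hm : Nat.card X = m) (h5 : 5 ≤ m)
    (hA : ∀ [Fintype X] [DecidableEq X], alternatingGroup X ≤ ρ.range) :
    Nonempty (K ≃* alternatingGroup (Fin m)) := by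
  classical
  haveI := Fintype.ofFinite X
  specialize hA
  haveI := h.normal
  haveI hs : IsSimpleGroup (alternatingGroup X) := alternatingGroup.isSimpleGroup (by omega)
  -- `K` maps into the alternating group
  have hK : ∀ k ∈ K, ρ k ∈ alternatingGroup X := by
    intro k hk
    rw [mem_alternatingGroup]
    have := perfect_hom_eq_one (Subgroup.isPerfect_iff.2 h.perfect) (inferInstance)
      ((sign (α := X)).comp (ρ.comp K.subtype)) ⟨k, hk⟩
    exact this
  let f : K →* alternatingGroup X := (ρ.comp K.subtype).codRestrict _ (fun k => hK k k.2)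
  have hf : Function.Injective f := by
    intro a b hab
    apply Subtype.ext
    apply hρ
    exact congrArg Subtype.val hab
  have hn : (f.range).Normal := by
    constructor
    rintro _ ⟨k, rfl⟩ g
    obtain ⟨g', hg'⟩ := hA g.2
    refine ⟨⟨g' * k * g'⁻¹, h.normal.conj_mem _ k.2 _⟩, ?_⟩
    apply Subtype.ext
    show ρ (g' * k * g'⁻¹) = _
    rw [map_mul, map_mul, map_inv, hg']
    rfl
  have hsurj : Function.Surjective f := by
    rcases hs.eq_bot_or_eq_top_of_normal _ hn with h1 | h1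
    · exfalso
      apply h.nontriv
      rw [Subgroup.eq_bot_iff_forall]
      intro k hk
      have h2 : f ⟨k, hk⟩ ∈ f.range := ⟨_, rfl⟩
      rw [h1, Subgroup.mem_bot] at h2
      have h3 := hf (h2.trans (map_one f).symm)
      exact congrArg Subtype.val h3
    · exact MonoidHom.range_eq_top.1 h1
  have e1 : K ≃* alternatingGroup X := MulEquiv.ofBijective f ⟨hf, hsurj⟩
  have e2 : X ≃ Fin m := by
    apply Fintype.equivFinOfCardEq
    rw [← hm, Nat.card_eq_fintype_card]
  exact ⟨e1.trans (Equiv.altCongrHom e2)⟩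

/-- small sets and restriction of the action -/
theorem SmallTrans.restr {B D : Set X} (hB : SmallTrans ρ B) (hD : ∀ (g : G), ∀ x ∈ D, ρ g x ∈ D)
    (hBD : B ⊆ D) : SmallTrans (restr ρ D hD) (Subtype.val ⁻¹' B : Set D) := by
  have hc : (Subtype.val ⁻¹' B : Set D).ncard = B.ncard := by
    rw [← Set.ncard_image_of_injective _ Subtype.val_injective, Subtype.image_preimage_coe,
      Set.inter_eq_right.2 hBD]
  refine ⟨by rw [hc]; exact hB.two, by rw [hc]; exact hB.four, ?_⟩
  intro a ha b hb hab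
  obtain ⟨v, hv1, hv2⟩ := hB.trans a ha b hb (fun h => hab (Subtype.ext h))
  exact ⟨v, Subtype.ext hv1, fun c hc => Subtype.ext (hv2 c hc)⟩

/-- the degree is at least five -/
theorem QS.five_le [Finite X] (h : QS K) (hρ : Function.Injective ρ) : 5 ≤ Nat.card X := by
  by_contra hlt
  push Not at hlt
  apply h.nontriv
  rw [Subgroup.eq_bot_iff_forall]
  intro k hk
  apply hρ
  rw [map_one]
  ext a
  exact h.fix_small (ρ := ρ) (B := Set.univ) (Set.toFinite _) (by rw [Set.ncard_univ]; omega)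
    (fun _ _ _ _ => Set.mem_univ _) k hk a (Set.mem_univ _)

theorem coe_swap {D : Set X} [DecidableEq X] [DecidableEq D] (x y w : D) :
    ((swap x y w : D) : X) = swap (x : X) (y : X) (w : X) := by
  by_cases h1 : w = x
  · subst h1; simp
  · by_cases h2 : w = y
    · subst h2; simp
    · rw [swap_apply_of_ne_of_ne h1 h2, swap_apply_of_ne_of_ne]
      · exact fun h => h1 (Subtype.ext h)
      · exact fun h => h2 (Subtype.ext h)

end

/-- the closure of a commuting set of elements of exponent `p` -/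
theorem closure_pow_eq_one {G : Type*} [Group G] {S : Set G} (hc : ∀ a ∈ S, ∀ b ∈ S, a * b = b * a)
    {p : ℕ} (hp : ∀ a ∈ S, a ^ p = 1) : ∀ x ∈ closure S, x ^ p = 1 := by
  have h1 : closure S ≤ centralizer S := by
    rw [closure_le]
    intro a ha
    rw [SetLike.mem_coe, mem_centralizer_iff]
    intro b hb
    exact hc b hb a ha
  have h2 : closure S ≤ centralizer (closure S : Set G) := by
    rw [closure_le]
    intro a ha
    rw [SetLike.mem_coe, mem_centralizer_iff]
    intro b hb
    exact (mem_centralizer_iff.1 (h1 hb) a ha).symm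
  intro x hx
  induction hx using closure_induction with
  | mem x hx => exact hp x hx
  | one => exact one_pow _
  | mul x y hx hy h3 h4 =>
    have : Commute x y := mem_centralizer_iff.1 (h2 hy) x hx
    rw [this.mul_pow, h3, h4, one_mul]
  | inv x hx h3 => rw [inv_pow, h3, inv_one]

/-- a Sylow subgroup contains a conjugate of each `p`-subgroup -/
theorem exists_conj_mem {G : Type*} [Group G] [Finite G] {p : ℕ} [Fact p.Prime] (P : Sylow p G)
    {U : Subgroup G} (hU : IsPGroup p U) : ∃ g : G, ∀ x ∈ U, g * x * g⁻¹ ∈ P := by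
  obtain ⟨Q, hQ⟩ := hU.exists_le_sylow
  obtain ⟨g, hg⟩ := MulAction.exists_smul_eq G Q P
  refine ⟨g, fun x hx => ?_⟩
  rw [← hg]
  have : (MulAut.conj g) x ∈ (g • Q : Sylow p G) := by
    rw [Sylow.smul_def]
    exact ⟨x, hQ hx, rfl⟩
  simpa using this

end Cfsg.Agent.H247
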