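import Mathlib
import Cfsg.Agent.LieClassical.SympCount
import Cfsg.Agent.LieClassical.SympCenter
import Cfsg.Agent.LieClassical.FieldTransfer
import Cfsg.Prelude.Def_Classical
set_option linter.all false

-- part: H247/Tables
section
/-!
# Isomorphic subgroups from tables

Two lists of `N` group elements in groups `G1`, `G2`, described by relations `R1`, `R2`, with the same
right multiplication table by corresponding involutory generators, give isomorphic subgroups of order `N`.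
-/

set_option autoImplicit false
set_option linter.style.haveILetI false

namespace Cfsg.Agent.H247.Tables

theorem exists_iso {G1 G2 : Type*} [Group G1] [Group G2] {κ : Type*} {N : ℕ}
    (g : κ → G1) (h : κ → G2) (hg : ∀ k, g k * g k = 1) (hh : ∀ k, h k * h k = 1)
    (R1 : Fin N → G1 → Prop) (R2 : Fin N → G2 → Prop) (i0 : Fin N) (h1 : R1 i0 1) (h2 : R2 i0 1)
    (ν : Fin N → κ → Fin N)
    (m1 : ∀ i k γ, R1 i γ → R1 (ν i k) (γ * g k)) (m2 : ∀ i k γ, R2 i γ → R2 (ν i k) (γ * h k))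
    (u1 : ∀ i γ γ', R1 i γ → R1 i γ' → γ = γ') (u2 : ∀ i γ γ', R2 i γ → R2 i γ' → γ = γ')
    (d1 : ∀ i j γ, R1 i γ → R1 j γ → i = j) (d2 : ∀ i, R2 i 1 → i = i0)
    (reach : ∀ i, i ≠ i0 → ∃ j k, j < i ∧ ν j k = i) :
    ∃ (H1 : Subgroup G1) (H2 : Subgroup G2), Nat.card H1 = N ∧ Nat.card H2 = N ∧
      Nonempty (H1 ≃* H2) := by
  classical
  let Γ : Subgroup (G1 × G2) := Subgroup.closure (Set.range fun k => (g k, h k))
  have hinv : ∀ k, (g k, h k)⁻¹ = (g k, h k) := by
    intro k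
    rw [inv_eq_iff_mul_eq_one]
    exact Prod.ext (hg k) (hh k)
  have hΓ : ∀ γ ∈ Γ, ∃ i, R1 i γ.1 ∧ R2 i γ.2 := by
    intro γ hγ
    induction hγ using Subgroup.closure_induction_right with
    | one => exact ⟨i0, h1, h2⟩
    | mul_right x _ y hy ih =>
      obtain ⟨i, hi1, hi2⟩ := ih
      obtain ⟨k, rfl⟩ := hy
      exact ⟨ν i k, m1 i k _ hi1, m2 i k _ hi2⟩
    | mul_inv_cancel x _ y hy ih =>
      obtain ⟨i, hi1, hi2⟩ := ih
      obtain ⟨k, rfl⟩ := hy
      rw [hinv]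
      exact ⟨ν i k, m1 i k _ hi1, m2 i k _ hi2⟩
  have hex : ∀ n : ℕ, ∀ i : Fin N, i.1 = n → ∃ γ ∈ Γ, R1 i γ.1 ∧ R2 i γ.2 := by
    intro n
    induction n using Nat.strong_induction_on with
    | _ n ih =>
      intro i hi
      by_cases hi0 : i = i0
      · exact ⟨1, Γ.one_mem, by rw [hi0]; exact h1, by rw [hi0]; exact h2⟩
      · obtain ⟨j, k, hj, hjk⟩ := reach i hi0
        obtain ⟨γ, hγ, h3, h4⟩ := ih j.1 (by rw [← hi]; exact hj) j rfl
        refine ⟨γ * (g k, h k), Γ.mul_mem hγ (Subgroup.subset_closure ⟨k, rfl⟩), ?_, ?_⟩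
        · rw [← hjk]; exact m1 j k _ h3
        · rw [← hjk]; exact m2 j k _ h4
  let e : Γ → Fin N := fun γ => (hΓ γ.1 γ.2).choose
  have he : ∀ γ : Γ, R1 (e γ) γ.1.1 ∧ R2 (e γ) γ.1.2 := fun γ => (hΓ γ.1 γ.2).choose_spec
  have hebij : Function.Bijective e := by
    constructor
    · intro γ γ' hγ
      apply Subtype.ext
      apply Prod.ext
      · exact u1 _ _ _ (he γ).1 (by rw [hγ]; exact (he γ').1)
      · exact u2 _ _ _ (he γ).2 (by rw [hγ]; exact (he γ').2)
    · intro i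
      obtain ⟨γ, hγ, h3, -⟩ := hex i.1 i rfl
      exact ⟨⟨γ, hγ⟩, d1 _ _ _ (he ⟨γ, hγ⟩).1 h3⟩
  have hcard : Nat.card Γ = N := by
    rw [Nat.card_congr (Equiv.ofBijective e hebij), Nat.card_eq_fintype_card, Fintype.card_fin]
  let f1 : Γ →* G1 := (MonoidHom.fst G1 G2).comp Γ.subtype
  let f2 : Γ →* G2 := (MonoidHom.snd G1 G2).comp Γ.subtype
  have hf1 : Function.Injective f1 := by
    rw [injective_iff_map_eq_one]
    intro γ hγ
    have h3 : γ.1.1 = 1 := hγ
    have h4 := (he γ).1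
    rw [h3] at h4
    have h5 : e γ = i0 := d1 _ _ _ h4 h1
    have h6 : γ.1.2 = 1 := by
      apply u2 i0 _ _ _ h2
      rw [← h5]; exact (he γ).2
    exact Subtype.ext (Prod.ext h3 h6)
  have hf2 : Function.Injective f2 := by
    rw [injective_iff_map_eq_one]
    intro γ hγ
    have h3 : γ.1.2 = 1 := hγ
    have h4 := (he γ).2
    rw [h3] at h4
    have h5 : e γ = i0 := d2 _ h4
    have h6 : γ.1.1 = 1 := by
      apply u1 i0 _ _ _ h1
      rw [← h5]; exact (he γ).1
    exact Subtype.ext (Prod.ext h6 h3)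
  let e1 := MonoidHom.ofInjective hf1
  let e2 := MonoidHom.ofInjective hf2
  refine ⟨f1.range, f2.range, ?_, ?_, ⟨e1.symm.trans e2⟩⟩
  · rw [← Nat.card_congr e1.toEquiv, hcard]
  · rw [← Nat.card_congr e2.toEquiv, hcard]

/-- Sylow subgroups are isomorphic to a given subgroup of the right order. -/
theorem sylow_equiv {G : Type*} [Group G] [Finite G] {p k m : ℕ} [Fact p.Prime]
    (hG : Nat.card G = p ^ k * m) (hm : ¬ p ∣ m) (P : Sylow p G) (H : Subgroup G)
    (hH : Nat.card H = p ^ k) : Nonempty (↥(P : Subgroup G) ≃* H) := by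
  have hf : (Nat.card G).factorization p = k := by
    have hp := (Fact.out : p.Prime)
    have hm0 : m ≠ 0 := by rintro rfl; exact hm (dvd_zero _)
    rw [hG, Nat.factorization_mul (pow_ne_zero _ hp.ne_zero) hm0, Finsupp.add_apply,
      hp.factorization_pow, Nat.factorization_eq_zero_of_not_dvd hm]
    simp
  let Q : Sylow p G := Sylow.ofCard H (by rw [hH, hf])
  exact ⟨P.equiv Q⟩

end Cfsg.Agent.H247.Tables
end

-- part: H247/Syl64
section
/-!
# The Sylow 2-subgroups of `A₈` and of `PSp₄(3)`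

Two explicit subgroups of order 64, given by tables.
-/

set_option autoImplicit false
set_option linter.style.haveILetI false

namespace Cfsg.Agent.H247.Syl64

/-- permutations of `Fin 8`, in base 8 -/
def aC : List ℕ := [16434824, 11789960, 14599368, 6852524, 9954504, 6851390, 11760840, 5017068, 2207660, 16405704, 5015934, 2206526, 
  9926280, 5016375, 2178540, 372204, 16433690, 14571144, 5017509, 2177406, 371070, 11788826, 6850935, 2177847, 
  343980, 14598675, 6823404, 14598234, 6852069, 2178981, 342846, 9953811, 6822270, 9953370, 2206071, 342391, 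
  11760147, 4988844, 16433235, 14599809, 11759706, 2207205, 343525, 16405011, 4987710, 11788371, 9954945, 16404570, 
  371511, 9925146, 4987255, 9924691, 16434369, 11761281, 372645, 14570010, 4988389, 14569555, 11789505, 16406145, 
  6822711, 9925825, 6823845, 14570689]

/-- matrices over `ZMod 3`, in base 3 -/
def bC : List ℕ := [14408200, 4960200, 30307698, 3322072, 1437618, 10669752, 10137582, 32015746, 1457328, 3315502, 10491906, 31904208, 
  5709018, 710049, 11004366, 4822443, 6221478, 16077142, 28711431, 30425806, 3249883, 17667082, 5157057, 1657747, 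
  6024621, 5176767, 14362281, 5492451, 30353617, 9605493, 28822969, 31950127, 1240761, 28829539, 14473819, 15959034, 
  14480389, 17601463, 572292, 1723366, 16004953, 10275339, 926616, 10807509, 9940107, 1611828, 5886864, 9959817, 
  17673652, 3203964, 5354694, 30419236, 32022316, 906906, 5689308, 1103004, 1729936, 10472196, 11024076, 17555544, 
  6241188, 9743250, 16070572, 28757350]

/-- right multiplication by the generators, in base 64 -/
def nuC : List ℕ := [12417, 20736, 28678, 456, 41033, 4747, 54018, 8398, 66499, 74820, 16723, 87301, 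
  90513, 26007, 103943, 111130, 34517, 115276, 38685, 128906, 135904, 47184, 50018, 149709, 
  156581, 59812, 162127, 62504, 70825, 178834, 185580, 80747, 191252, 83311, 203798, 210418, 
  97497, 214680, 99949, 109877, 199771, 228764, 235384, 122463, 239646, 124902, 134843, 224737, 
  166076, 141879, 253731, 145721, 154106, 249703, 195198, 170993, 262058, 174835, 183220, 258030, 
  220336, 208255, 245302, 233213]

def aT (i : Fin 64) : ℕ := aC.getD i 0

def bT (i : Fin 64) : ℕ := bC.getD i 0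

def nu (i : Fin 64) (k : Fin 3) : Fin 64 :=
  ⟨(nuC.getD i 0) / 64 ^ k.1 % 64, Nat.mod_lt _ (by norm_num)⟩

def ent (n : ℕ) : Matrix (Fin 2 ⊕ Fin 2) (Fin 2 ⊕ Fin 2) (ZMod 3) :=
  fun r c => ((n / 3 ^ (4 * (Sum.elim (fun i => i.1) (fun i => i.1 + 2) r) +
    (Sum.elim (fun i => i.1) (fun i => i.1 + 2) c)) % 3 : ℕ) : ZMod 3)

def dig (n : ℕ) (x : Fin 8) : ℕ := n / 8 ^ x.1 % 8

/-- the generators in `A₈` -/
def gP : Fin 3 → Equiv.Perm (Fin 8) := ![Equiv.swap 4 6 * Equiv.swap 5 7,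
  Equiv.swap 2 3 * Equiv.swap 6 7,
  Equiv.swap 0 4 * Equiv.swap 1 5 * Equiv.swap 2 6 * Equiv.swap 3 7]

theorem gP_mem : ∀ k, gP k ∈ alternatingGroup (Fin 8) := by
  simp only [Equiv.Perm.mem_alternatingGroup]
  decide

def g (k : Fin 3) : alternatingGroup (Fin 8) := ⟨gP k, gP_mem k⟩

theorem gP_sq : ∀ k, gP k * gP k = 1 := by decide

theorem chk1 : ∀ i : Fin 64, ∀ k : Fin 3, ∀ x : Fin 8, dig (aT i) (gP k x) = dig (aT (nu i k)) x := by
  decide +kernel

theorem chk1_one : ∀ x : Fin 8, x.1 = dig (aT 0) x := by decide +kernel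

theorem chk1_inj : ∀ i j : Fin 64, (∀ x : Fin 8, dig (aT i) x = dig (aT j) x) → i = j := by
  decide +kernel

theorem chk2 : ∀ i : Fin 64, ∀ k : Fin 3, ent (bT i) * ent (bT (nu 0 k)) = ent (bT (nu i k)) ∨
    ent (bT i) * ent (bT (nu 0 k)) = - ent (bT (nu i k)) := by
  decide +kernel

theorem chk2_mem : ∀ k : Fin 3, ent (bT (nu 0 k)) ∈ Matrix.symplecticGroup (Fin 2) (ZMod 3) := by
  intro k
  rw [SymplecticGroup.mem_iff]
  revert k
  decide +kernel

theorem chk2_one : ent (bT 0) = 1 := by decide +kernel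

theorem chk2_sq : ∀ k : Fin 3, ent (bT (nu 0 k)) * ent (bT (nu 0 k)) = 1 ∨
    ent (bT (nu 0 k)) * ent (bT (nu 0 k)) = -1 := by decide +kernel

theorem chk2_scalar : ∀ i : Fin 64, ∀ a : ZMod 3,
    ent (bT i) = a • (1 : Matrix (Fin 2 ⊕ Fin 2) (Fin 2 ⊕ Fin 2) (ZMod 3)) → i = 0 := by
  decide +kernel

theorem chk_reach : ∀ i : Fin 64, i ≠ 0 → ∃ j : Fin 64, ∃ k : Fin 3, j < i ∧ nu j k = i := by
  decide +kernel

/-- the generators in `Sp₄(3)` -/
def hS (k : Fin 3) : Matrix.symplecticGroup (Fin 2) (ZMod 3) := ⟨ent (bT (nu 0 k)), chk2_mem k⟩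

instance instFactPrimeThree : Fact (Nat.Prime 3) := ⟨Nat.prime_three⟩

/-- the generators in `PSp₄(3)` -/
def h (k : Fin 3) : Cfsg.PSp 2 (ZMod 3) := QuotientGroup.mk (hS k)

theorem mk_eq_of_neg (A B : Matrix.symplecticGroup (Fin 2) (ZMod 3)) (hAB : A.1 = - B.1) :
    (QuotientGroup.mk A : Cfsg.PSp 2 (ZMod 3)) = QuotientGroup.mk B := by
  rw [QuotientGroup.eq, Cfsg.Agent.LieClassical.SympCenter.mem_center_iff]
  refine ⟨-1, ?_⟩
  have h1 : B = ⟨-1, SymplecticGroup.neg_mem (Matrix.symplecticGroup (Fin 2) (ZMod 3)).one_mem⟩ * A := by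
    apply Subtype.ext
    change B.1 = (-1) * A.1
    rw [hAB]; simp
  have h2 : A⁻¹ * B = ⟨-1, SymplecticGroup.neg_mem (Matrix.symplecticGroup (Fin 2) (ZMod 3)).one_mem⟩ := by
    rw [inv_mul_eq_iff_eq_mul, h1]
    apply Subtype.ext
    change (-1) * A.1 = A.1 * (-1)
    simp
  rw [h2]
  simp

def R1 (i : Fin 64) (γ : alternatingGroup (Fin 8)) : Prop :=
  ∀ x : Fin 8, ((γ : Equiv.Perm (Fin 8)) x).1 = dig (aT i) x

def R2 (i : Fin 64) (γ : Cfsg.PSp 2 (ZMod 3)) : Prop :=
  ∃ M : Matrix.symplecticGroup (Fin 2) (ZMod 3), QuotientGroup.mk M = γ ∧ M.1 = ent (bT i)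

theorem exists_iso64 : ∃ (H1 : Subgroup (alternatingGroup (Fin 8))) (H2 : Subgroup (Cfsg.PSp 2 (ZMod 3))),
    Nat.card H1 = 64 ∧ Nat.card H2 = 64 ∧ Nonempty (H1 ≃* H2) := by
  refine Tables.exists_iso g h ?_ ?_ R1 R2 0 ?_ ?_ nu ?_ ?_ ?_ ?_ ?_ ?_ chk_reach
  · intro k
    apply Subtype.ext
    exact gP_sq k
  · intro k
    change (QuotientGroup.mk (hS k * hS k) : Cfsg.PSp 2 (ZMod 3)) = QuotientGroup.mk 1
    rcases chk2_sq k with h1 | h1
    · congr 1
      apply Subtype.ext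
      exact h1
    · exact mk_eq_of_neg _ _ h1
  · intro x
    exact chk1_one x
  · exact ⟨1, rfl, chk2_one.symm⟩
  · intro i k γ hγ x
    rw [← chk1 i k x, ← hγ]
    rfl
  · rintro i k γ ⟨M, rfl, hM⟩
    rcases chk2 i k with h1 | h1
    · exact ⟨M * hS k, rfl, by rw [← h1, ← hM]; rfl⟩
    · refine ⟨⟨-(M * hS k).1, SymplecticGroup.neg_mem (M * hS k).2⟩, ?_, ?_⟩
      · exact mk_eq_of_neg _ (M * hS k) rfl
      · change -(M.1 * (hS k).1) = _
        rw [hM]
        change -(ent (bT i) * ent (bT (nu 0 k))) = _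
        rw [h1, neg_neg]
  · intro i γ γ' h1 h2
    apply Subtype.ext
    apply Equiv.ext
    intro x
    apply Fin.ext
    rw [h1 x, h2 x]
  · rintro i γ γ' ⟨M, rfl, hM⟩ ⟨M', rfl, hM'⟩
    congr 1
    apply Subtype.ext
    rw [hM, hM']
  · intro i j γ h1 h2
    apply chk1_inj
    intro x
    rw [← h1 x, ← h2 x]
  · rintro i ⟨M, hM1, hM⟩
    have h1 : M ∈ Subgroup.center (Matrix.symplecticGroup (Fin 2) (ZMod 3)) := by
      rwa [QuotientGroup.eq_one_iff] at hM1
    rw [Cfsg.Agent.LieClassical.SympCenter.mem_center_iff] at h1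
    obtain ⟨a, ha⟩ := h1
    exact chk2_scalar i a (by rw [← hM, ha])

theorem card_alt8 : Nat.card (alternatingGroup (Fin 8)) = 2 ^ 6 * 315 := by
  rw [nat_card_alternatingGroup, Nat.card_eq_fintype_card, Fintype.card_fin]
  decide

theorem card_psp : Nat.card (Cfsg.PSp 2 (ZMod 3)) = 2 ^ 6 * 405 := by
  have h1 := Cfsg.Agent.LieClassical.SympCount.card_symplecticGroup (F := ZMod 3) 2
  have h2 := Cfsg.Agent.LieClassical.SympCenter.card_center (F := ZMod 3) (m := 2) (by norm_num)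
  have h3 := Subgroup.card_eq_card_quotient_mul_card_subgroup
    (Subgroup.center (Matrix.symplecticGroup (Fin 2) (ZMod 3)))
  rw [h1, h2, ZMod.card] at h3
  norm_num [Finset.prod_range_succ] at h3
  change 51840 = Nat.card (Cfsg.PSp 2 (ZMod 3)) * 2 at h3
  omega

theorem sylow_iso (F : Type) [Field F] [Fintype F] (hF : Fintype.card F = 3)
    (P : Sylow 2 ↥(alternatingGroup (Fin 8))) (Q : Sylow 2 (Cfsg.PSp 2 F)) :
    Nonempty (↥(P : Subgroup ↥(alternatingGroup (Fin 8))) ≃* ↥(Q : Subgroup (Cfsg.PSp 2 F))) := by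
  obtain ⟨H1, H2, c1, c2, ⟨e⟩⟩ := exists_iso64
  let e0 : ZMod 3 ≃+* F := ZMod.ringEquivOfPrime F Nat.prime_three hF
  let E : Cfsg.PSp 2 (ZMod 3) ≃* Cfsg.PSp 2 F := Cfsg.Agent.LieClassical.FieldTransfer.pspCongr 2 e0
  haveI : Finite (Cfsg.PSp 2 F) := Finite.of_equiv _ E.toEquiv
  have hc : Nat.card (Cfsg.PSp 2 F) = 2 ^ 6 * 405 := by
    rw [← Nat.card_congr E.toEquiv, card_psp]
  have hc3 : Nat.card (H2.map E.toMonoidHom) = 2 ^ 6 := by
    rw [← Nat.card_congr (H2.equivMapOfInjective E.toMonoidHom E.injective).toEquiv, c2]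
    norm_num
  obtain ⟨e1⟩ := Tables.sylow_equiv card_alt8 (by norm_num) P H1 (by rw [c1]; norm_num)
  obtain ⟨e2⟩ := Tables.sylow_equiv hc (by norm_num) Q _ hc3
  exact ⟨e1.trans (e.trans ((H2.equivMapOfInjective E.toMonoidHom E.injective).trans e2.symm))⟩

end Cfsg.Agent.H247.Syl64
end
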